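import Groth.Agent.AlgSpDesc.Valuative
import Groth.Agent.AlgSpDesc.OnePoint
import Groth.Agent.AlgSpc.DecentMor
import Groth.Agent.AlgSpDesc.ExistLift
import Groth.Agent.AlgSpc.Decent2

/-!
Decent universally closed morphisms satisfy the existence part of the valuative criterion.
-/

set_option autoImplicit false
set_option linter.style.haveILetI false
set_option backward.isDefEq.respectTransparency false

universe u

open CategoryTheory CategoryTheory.Limits AlgebraicGeometry IsLocalRing

namespace Groth.Agent.AlgSpDescDecent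

open Groth.Agent.AlgSpDesc

open _root_.AlgSp Groth.Agent.AlgSpc

variable {S : Scheme.{u}} {X Y : Sp S} {f : X ⟶ Y}

/-- Decent universally closed morphisms meet the existence criterion. -/
theorem existVC_of_decent_univClosed (hX : IsAlgSpace X) (hY : IsAlgSpace Y) (hqs : IsDecentMor f)
    (hcl : IsUnivClosedMor f) : ExistVC f := by
  intro sq
  have sP := IsPullback.of_hasPullback f sq.bot
  have hP := isAlgSpace_of_isPullback hX hY (IsAlgSpace.yon_obj sq.ptA) sP
  have hdP : IsDecent (pullback f sq.bot) := isDecent_of_isDecentMor (isDecentMor_of_isPullback sP hqs) (isDecent_yon _)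
  let p := pullback.snd f sq.bot
  let top' : (yon S).obj sq.ptK ⟶ pullback f sq.bot := pullback.lift sq.top ((yon S).map sq.j) sq.comm
  let pt : ↥sq.ptK.left := closedPoint sq.K
  have hclp : IsClosedMap (Points.map p) := hcl (IsAlgSpace.yon_obj sq.ptA) _ _ _ sP
  have hq : Points.map p (Points.ofPt top' pt) = Points.ofScheme sq.ptA (sq.j.left pt) := by
    rw [Points.map_ofPt, pullback.lift_snd, ofPt_pre, pre_map]
  obtain ⟨x', hx', hpx'⟩ : ∃ x', Points.ofPt top' pt ⤳ x' ∧ Points.map p x' = Points.ofScheme sq.ptA (closedPoint sq.A) := by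
    have h2 : Points.map p (Points.ofPt top' pt) ⤳ Points.ofScheme sq.ptA (closedPoint sq.A) := by
      rw [hq]
      exact (IsLocalRing.specializes_closedPoint (R := sq.A) _).map (Points.schemeHomeo sq.ptA).continuous
    obtain ⟨x', hx', hpx'⟩ := h2.mem_closed (hclp (closure {Points.ofPt top' pt}) isClosed_closure) ⟨_, subset_closure rfl, rfl⟩
    exact ⟨x', specializes_iff_mem_closure.2 hx', hpx'⟩
  obtain ⟨U₀, a₀, ha₀, ha₀s⟩ := hP.atlas
  obtain ⟨u₀, hu₀⟩ := surjective_ofPt ha₀s x'
  obtain ⟨_, ⟨O, hO, rfl⟩, huO, -⟩ :=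
    U₀.left.isBasis_affineOpens.exists_subset_of_mem_open (Set.mem_univ u₀) isOpen_univ
  let U : Over S := Over.mk ((Scheme.Opens.ι O) ≫ U₀.hom)
  let ι : U ⟶ U₀ := Over.homMk (Scheme.Opens.ι O) rfl
  let u' : ↥U.left := ⟨u₀, huO⟩
  obtain ⟨a, ha, hu'⟩ : ∃ a : (yon S).obj U ⟶ pullback f sq.bot, RepWith @Etale a ∧ Points.ofPt a u' = x' :=
    ⟨(yon S).map ι ≫ a₀,
      repWith_comp ((repWith_yon_map_iff _ _).2 (inferInstanceAs (Etale (Scheme.Opens.ι O)))) ha₀,
      by rw [ofPt_comp]; exact hu₀⟩
  haveI : CompactSpace U.left := isCompact_iff_compactSpace.1 hO.isCompact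
  let g : U ⟶ sq.ptA := pre (a ≫ p)
  -- the fibre over the generic point
  obtain ⟨V, fst, snd, sV⟩ := exists_sq ha.1 top'
  haveI : Etale snd.left := ha.2 _ _ _ sV
  have himg : ∀ w : ↥U.left, Points.ofPt a w = Points.ofPt top' pt → w ∈ Set.range (pre fst).left := fun w hw => by
    obtain ⟨v, hv, -⟩ := exists_point_of_sq sV (Points.ofScheme U w) pt
      (by rw [← Points.ofPt_eq_map_ofScheme]; exact hw)
    rw [ofPt_pre] at hv
    exact ⟨v, (Points.schemeEquiv U).injective hv⟩
  obtain ⟨w, hw, hwx⟩ := exists_specializes_lift hdP ha (hu'.symm ▸ hx' : Points.ofPt top' pt ⤳ Points.ofPt a u')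
  obtain ⟨v, rfl⟩ := himg w hwx
  have hv : (pre fst).left v ⤳ u' := hw
  let ψ₀ : CommRingCat.of sq.K ⟶ V.left.residueField v := Spec.preimage (V.left.fromSpecResidueField v ≫ snd.left)
  let iV : extPt sq ψ₀.hom ⟶ V := Over.homMk (V.left.fromSpecResidueField v) (by
    change _ = Spec.map ψ₀ ≫ sq.ptK.hom
    rw [Spec.map_preimage, Category.assoc, Over.w snd])
  have hiV : iV ≫ snd = extHom sq ψ₀.hom := by ext; exact (Spec.map_preimage _).symm
  have hg' : g.left u' = closedPoint sq.A := by
    refine (Points.schemeEquiv sq.ptA).injective ?_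
    change Points.ofScheme sq.ptA (g.left u') = _
    rw [← ofPt_pre, ← Points.map_ofPt, hu']
    exact hpx'
  obtain ⟨A', φ, hc, hl, h⟩ := exists_domExt_of_chart sq (a ≫ pullback.fst f sq.bot) g
    (by rw [Category.assoc, pullback.condition, map_pre, Category.assoc])
    ψ₀.hom (iV ≫ pre fst)
    (by
      refine (yon S).map_injective ?_
      rw [Category.assoc, Functor.map_comp, Functor.map_comp, map_pre, map_pre, ← Category.assoc fst, sV.w,
        Category.assoc, pullback.lift_snd, ← Functor.map_comp, ← Functor.map_comp, ← Category.assoc, hiV])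
    (by
      rw [Functor.map_comp, map_pre, Category.assoc, ← Category.assoc fst, sV.w, Category.assoc,
        pullback.lift_fst, ← Functor.map_comp_assoc, hiV])
    u' hg'
    (by
      rw [Over.comp_left, Scheme.Hom.comp_apply,
        show iV.left (closedPoint (V.left.residueField v)) = v from Scheme.fromSpecResidueField_apply v _]
      exact hv)
  exact ⟨_, h⟩

end Groth.Agent.AlgSpDescDecent
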